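import Groth.Prelude.Def_CGrpSh
import Groth.Prelude.Def_WeilRes
import Groth.Agent.GrpSchLib.ArtinImage
import Groth.Agent.H84WeilRes.Affine
import Mathlib.CategoryTheory.Monoidal.Cartesian.Grp
import Mathlib.AlgebraicGeometry.Morphisms.FlatMono

/-!
# A subgroup sheaf of the Weil restriction of a finite group scheme is a closed subscheme of it
-/

set_option autoImplicit false

universe u

open CategoryTheory CategoryTheory.Limits AlgebraicGeometry MonObj Opposite CartesianMonoidalCategory

namespace Groth.Agent.WeilPts79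

/-- A monomorphic homomorphism of groups of finite type over a field is a closed immersion. -/
theorem isClosedImmersion_of_mono {K : Type u} [Field K] {G H : Over (Spec (CommRingCat.of K))} [GrpObj G] [GrpObj H]
    [LocallyOfFiniteType G.hom] [LocallyOfFiniteType H.hom] (u : G ⟶ H) [IsMonHom u] [QuasiCompact u.left] [Mono u] :
    IsClosedImmersion u.left := by
  haveI : Flat G.hom := inferInstance
  have hfield : ∀ {Z : Scheme.{u}} (g : Z ⟶ Spec (CommRingCat.of K)), Flat g := fun g => inferInstance
  obtain ⟨C, _, p, i, _, _, hpi, hf, hs, hlfp, hi, -⟩ := GrpSchLib.ArtinImage.exists_image u (hfield _)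
  haveI := hf
  haveI := hs
  haveI := hlfp
  haveI := hi
  haveI : Mono u.left := inferInstanceAs (Mono ((Over.forget _).map u))
  haveI : Mono p.left := by
    haveI : Mono (p.left ≫ i.left) := by rw [← Over.comp_left, hpi]; infer_instance
    exact mono_of_mono p.left i.left
  haveI := IsOpenImmersion.of_flat_of_mono p.left
  haveI : IsIso p.left := (isIso_iff_isOpenImmersion_and_surjective _).2 ⟨inferInstance, inferInstance⟩
  rw [← hpi, Over.comp_left]
  infer_instance

variable {K k' : Type u} [Field K] [Field k'] [Algebra K k'] [FiniteDimensional K k']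

/-- A subgroup sheaf of the Weil restriction of a finite group scheme is a closed subscheme of it. -/
theorem exists_closedImmersion (G : Over (Spec (CommRingCat.of K))) [GrpObj G] [IsCommMonObj G]
    [LocallyOfFiniteType G.hom] [QuasiCompact G.hom]
    (X' : Over (Spec (CommRingCat.of k'))) [GrpObj X'] [IsCommMonObj X'] [IsFinite X'.hom]
    (j : CGrpSh.pts Scheme.fppfPrecoverage G ⟶
      (BigSite.pushBig Scheme.fppfPrecoverage (H84WeilRes.fB K k') AddCommGrpCat.{u + 1}).obj
        (CGrpSh.pts Scheme.fppfPrecoverage X')) [Mono j] :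
    ∃ (R : Over (Spec (CommRingCat.of K))) (q : Red.bc (H84WeilRes.fB K k') R ⟶ X') (i : G ⟶ R),
      WeilRes.IsWeilRes (H84WeilRes.fB K k') X' R q ∧ IsAffine R.left ∧ IsClosedImmersion i.left := by
  haveI : IsAffine X'.left := isAffine_of_isAffineHom X'.hom
  haveI : LocallyOfFinitePresentation X'.hom := inferInstance
  obtain ⟨R, q, hR, hlfp, h⟩ := H84WeilRes.exists_isWeilRes K k' X'
  haveI := hR
  haveI := hlfp
  let f := H84WeilRes.fB K k'
  let F : (Over (Spec (CommRingCat.of K)))ᵒᵖ ⥤ GrpCat.{u} := (Over.pullback f).op ⋙ yonedaGrpObj X'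
  let α : (F ⋙ forget GrpCat.{u}).RepresentableBy R :=
    { homEquiv := fun {T} => Equiv.ofBijective (WeilRes.restr f q T) (h T)
      homEquiv_comp := fun t g => WeilRes.restr_comp f q t g }
  letI : GrpObj R := GrpObj.ofRepresentableBy R F α
  have hmul : ∀ (T : Over (Spec (CommRingCat.of K))) (a b : T ⟶ R),
      WeilRes.restr f q T (a * b) = WeilRes.restr f q T a * WeilRes.restr f q T b := fun T a b =>
    ((yonedaGrpObjIsoOfRepresentableBy R F α).hom.app (op T)).hom.map_mul a b
  let φ : ∀ T, (T ⟶ G) → (Red.bc f T ⟶ X') := fun T g => (j.hom.app (op T) (ULift.up (Additive.ofMul g))).down.toMul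
  have hφnat : ∀ {T T'} (t : T' ⟶ T) (g : T ⟶ G), φ T' (t ≫ g) = (Over.pullback f).map t ≫ φ T g := fun t g =>
    congrArg (fun z => Additive.toMul (ULift.down z)) (NatTrans.naturality_apply j.hom t.op (ULift.up (Additive.ofMul g)))
  have hφmul : ∀ T (a b : T ⟶ G), φ T (a * b) = φ T a * φ T b := fun T a b =>
    congrArg (fun z => Additive.toMul (ULift.down z))
      ((j.hom.app (op T)).hom.map_add (ULift.up (Additive.ofMul a)) (ULift.up (Additive.ofMul b)))
  have hinj : ∀ T, Function.Injective (φ T) := fun T a b hab => by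
    haveI : Mono j.hom := inferInstanceAs (Mono ((sheafToPresheaf _ _).map j))
    have hm := (AddCommGrpCat.mono_iff_injective (j.hom.app (op T))).1 inferInstance
    exact congrArg (fun z => Additive.toMul (ULift.down z))
      (hm (ULift.ext _ _ (congrArg Additive.ofMul hab)) :
        ULift.up.{u + 1} (Additive.ofMul a) = ULift.up (Additive.ofMul b))
  let i : G ⟶ R := h.lift G (φ G (𝟙 G))
  have hi : ∀ T (g : T ⟶ G), WeilRes.restr f q T (g ≫ i) = φ T g := fun T g => by
    rw [WeilRes.restr_comp, WeilRes.IsWeilRes.restr_lift, ← hφnat, Category.comp_id]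
  have himul : ∀ T (a b : T ⟶ G), (a * b) ≫ i = (a ≫ i) * (b ≫ i) := fun T a b => by
    apply (h T).1
    rw [hmul, hi, hi, hi, hφmul]
  haveI : IsMonHom i :=
    { one_hom := by
        have h1 := himul _ (1 : MonoidalCategory.tensorUnit (Over (Spec (CommRingCat.of K))) ⟶ G) 1
        rw [_root_.one_mul] at h1
        have h2 := mul_eq_left.1 h1.symm
        rw [Hom.one_def, Hom.one_def, toUnit_unique (toUnit _) (𝟙 _), Category.id_comp, Category.id_comp] at h2
        exact h2
      mul_hom := by
        have h1 := himul _ (fst G G) (snd G G)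
        rw [Hom.mul_def, lift_fst_snd, Category.id_comp] at h1
        rw [h1, Hom.mul_def]
        congr 1
        all_goals apply CartesianMonoidalCategory.hom_ext <;> simp }
  haveI : Mono i := ⟨fun {T} a b hab => hinj T (by rw [← hi, ← hi, hab])⟩
  haveI : QuasiCompact (i.left ≫ R.hom) := by rw [Over.w i]; infer_instance
  haveI : QuasiCompact i.left := QuasiCompact.of_comp i.left R.hom
  exact ⟨R, q, i, h, hR, isClosedImmersion_of_mono i⟩

end Groth.Agent.WeilPts79
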