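import Groth.Agent.WeilPts79.Adele
import Groth.Agent.WeilPts79.Closed
import Groth.Agent.AdPts79.Adele

/-!
# Local points of subgroups of Weil restrictions of finite group schemes are integral almost everywhere
-/

set_option autoImplicit false
set_option maxHeartbeats 400000

universe u

open CategoryTheory AlgebraicGeometry Filter Opposite MonObj Groth.Agent.H84WeilRes

namespace Groth.Agent.WeilPts79

/-- A morphism to the target of a closed immersion of affine schemes which factors after an injective extension of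
rings factors. -/
theorem exists_factor {K : Type u} [CommRing K] {A B : Type u} [CommRing A] [Algebra K A] [CommRing B] [Algebra K B]
    (φ : A →ₐ[K] B) (hφ : Function.Injective φ) {G R : Over (Spec (CommRingCat.of K))} (i : G ⟶ R)
    [IsClosedImmersion i.left] (r : spec K A ⟶ R) (g : spec K B ⟶ G) (h : specMap φ ≫ r = g ≫ i) :
    ∃ x : spec K A ⟶ G, specMap φ ≫ x = g := by
  let c := CommRingCat.ofHom φ.toRingHom
  have hker : (Spec.map c).ker = ⊥ := by
    refine Scheme.IdealSheafData.ext_of_isAffine ?_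
    rw [Scheme.Hom.ker_apply _ ⟨⊤, isAffineOpen_top _⟩]
    have hinj : Function.Injective ((Spec.map c).app ⊤).hom := by
      have h1 := Scheme.ΓSpecIso_naturality c
      intro a b hab
      apply (ConcreteCategory.bijective_of_isIso (Scheme.ΓSpecIso (CommRingCat.of A)).hom).1
      apply hφ
      exact ((congrArg (fun F : _ ⟶ CommRingCat.of B => F.hom a) h1).symm.trans
        (congrArg (Scheme.ΓSpecIso (CommRingCat.of B)).hom hab)).trans
        (congrArg (fun F : _ ⟶ CommRingCat.of B => F.hom b) h1)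
    refine ((RingHom.injective_iff_ker_eq_bot _).1 hinj).trans ?_
    simp only [Scheme.IdealSheafData.ideal_bot, Pi.bot_apply]
  have hle : i.left.ker ≤ r.left.ker := by
    have h2 : (Spec.map c ≫ r.left).ker = r.left.ker := by
      rw [Scheme.Hom.ker_comp, hker, Scheme.IdealSheafData.map_bot]
    rw [← h2, show Spec.map c ≫ r.left = g.left ≫ i.left from congrArg CommaMorphism.left h]
    exact Scheme.Hom.le_ker_comp _ _
  let x : spec K A ⟶ G := Over.homMk (IsClosedImmersion.lift i.left r.left hle) (by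
    rw [← Over.w i, ← Category.assoc, IsClosedImmersion.lift_fac]; exact Over.w r)
  haveI : Mono i := (Over.forget _).mono_of_mono_map (inferInstanceAs (Mono i.left))
  refine ⟨x, ?_⟩
  rw [← cancel_mono i, Category.assoc, ← h]
  congr 1
  exact Over.OverMorphism.ext (IsClosedImmersion.lift_fac _ _ _)

variable {Fq : Type u} [Field Fq] {K : Type u} [Field K] [Algebra (RatFunc Fq) K] [FunctionField Fq K]
  [Algebra Fq K] [IsScalarTower Fq (RatFunc Fq) K] [AdFn.HasFinitePoles Fq K]
  {S : Set (FunFld.Place Fq K)}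

local notation "gen" => Spec.map (CommRingCat.ofHom (AdFn.SInt.toK S))

/-- A `K`-algebra as a scheme over the `S`-integers. -/
noncomputable def overIso {A : Type u} [CommRing A] [Algebra K A] (φ : AdFn.SInt S →+* A)
    (h : (algebraMap K A).comp (AdFn.SInt.toK S) = φ) :
    AdFn.specOf φ ≅ (Over.map gen).obj (spec K A) :=
  Over.isoMk (Iso.refl _) (by
    show 𝟙 _ ≫ Spec.map _ ≫ Spec.map _ = Spec.map _
    rw [Category.id_comp, ← Spec.map_comp, ← CommRingCat.ofHom_comp, h])

variable {𝒢 : Over (Spec (CommRingCat.of (AdFn.SInt S)))} [GrpObj 𝒢] [IsCommMonObj 𝒢]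
  {G : Over (Spec (CommRingCat.of K))} [GrpObj G] [IsCommMonObj G]

omit [GrpObj G] [IsCommMonObj G] in
/-- A family of local points of an affine scheme is a point with values in the product. -/
theorem exists_pi_point [IsAffine G.left] (Y : ∀ v : FunFld.Place Fq K, spec K (AdFn.Kv v) ⟶ G) :
    ∃ g : spec K (∀ v : FunFld.Place Fq K, AdFn.Kv v) ⟶ G,
      ∀ v, specMap (Pi.evalAlgHom K (fun w : FunFld.Place Fq K => AdFn.Kv w) v) ≫ g = Y v := by
  let σ := Spec.preimage (G.left.isoSpec.inv ≫ G.hom)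
  let gam : Γ(G.left, ⊤) →+* ∀ v : FunFld.Place Fq K, AdFn.Kv v :=
    RingHom.pi fun v => (Spec.preimage ((Y v).left ≫ G.left.isoSpec.hom)).hom
  have hw : (Spec.map (CommRingCat.ofHom gam) ≫ G.left.isoSpec.inv) ≫ G.hom =
      Spec.map (CommRingCat.ofHom (algebraMap K (∀ v : FunFld.Place Fq K, AdFn.Kv v))) := by
    rw [Category.assoc, ← Spec.map_preimage (G.left.isoSpec.inv ≫ G.hom), ← Spec.map_comp]
    refine congrArg Spec.map (CommRingCat.hom_ext (RingHom.ext fun a => funext fun v => ?_))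
    have hv : σ ≫ Spec.preimage ((Y v).left ≫ G.left.isoSpec.hom) =
        CommRingCat.ofHom (algebraMap K (AdFn.Kv v)) := by
      apply Spec.map_injective
      rw [Spec.map_comp, Spec.map_preimage, Spec.map_preimage, Category.assoc, Iso.hom_inv_id_assoc]
      exact Over.w (Y v)
    exact congrArg (fun F : CommRingCat.of K ⟶ CommRingCat.of (AdFn.Kv v) => F.hom a) hv
  refine ⟨Over.homMk (Spec.map (CommRingCat.ofHom gam) ≫ G.left.isoSpec.inv) hw, fun v => ?_⟩
  refine Over.OverMorphism.ext ?_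
  show Spec.map _ ≫ Spec.map _ ≫ G.left.isoSpec.inv = (Y v).left
  rw [← Category.assoc, ← Spec.map_comp, Iso.comp_inv_eq]
  exact Spec.map_preimage ((Y v).left ≫ G.left.isoSpec.hom)

/-- Every family of local points of a subgroup of the Weil restriction of a finite group scheme is adelic. -/
theorem exists_adelic_point [LocallyOfFiniteType G.hom] [QuasiCompact G.hom]
    {k' : Type u} [Field k'] [Algebra K k'] [FiniteDimensional K k']
    (B' : Over (Spec (CommRingCat.of k'))) [GrpObj B'] [IsCommMonObj B'] [IsFinite B'.hom]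
    (j : CGrpSh.pts Scheme.fppfPrecoverage G ⟶
      (BigSite.pushBig Scheme.fppfPrecoverage (fB K k') AddCommGrpCat.{u + 1}).obj
        (CGrpSh.pts Scheme.fppfPrecoverage B')) [Mono j]
    (Y : ∀ v : FunFld.Place Fq K, spec K (AdFn.Kv v) ⟶ G) :
    ∃ x : spec K (AdFn.AdeleRing Fq K) ⟶ G,
      ∀ v, specMap (Pi.evalAlgHom K (fun w : FunFld.Place Fq K => AdFn.Kv w) v) ≫ specMap (toPi Fq) ≫ x = Y v := by
  obtain ⟨R, q, i, hW, hR, hi⟩ := exists_closedImmersion G B' j
  haveI := hR
  haveI := hi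
  haveI : IsAffine G.left := isAffine_of_isAffineHom i.left
  obtain ⟨g, hg⟩ := exists_pi_point Y
  obtain ⟨r, hr⟩ := exists_adele_point Fq hW (g ≫ i)
  have hfac := @exists_factor K _ (AdFn.AdeleRing Fq K) (∀ v : FunFld.Place Fq K, AdFn.Kv v) _ _ _ _ (toPi Fq)
    (toPi_injective Fq) G R i _
  obtain ⟨x, hx⟩ := hfac r g hr
  exact ⟨x, fun v => by rw [hx]; exact hg v⟩

variable (e : AdFn.ModelIso Scheme.fppfPrecoverage S 𝒢 G)

include e in
/-- Points of a model over `K`-schemes are points of the group. -/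
theorem exists_transfer :
    ∃ (to𝒢 : ∀ T, (T ⟶ G) → ((Over.map gen).obj T ⟶ 𝒢)),
      (∀ T, Function.Surjective (to𝒢 T)) ∧
      ∀ {T T'} (t : T' ⟶ T) (g : T ⟶ G), to𝒢 T' (t ≫ g) = (Over.map gen).map t ≫ to𝒢 T g := by
  refine ⟨fun T g => ((e.inv.hom.app (op T)).hom (ULift.up.{u + 1} (Additive.ofMul g) :)).down.toMul, fun T g => ?_,
    fun t g => ?_⟩
  · refine ⟨((e.hom.hom.app (op T)).hom (ULift.up.{u + 1} (Additive.ofMul g) :)).down.toMul, ?_⟩
    exact congrArg (fun z => Additive.toMul (ULift.down z))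
      (DFunLike.congr_fun (congrArg (fun F => (F.hom.app (op T)).hom) e.hom_inv_id)
        (ULift.up.{u + 1} (Additive.ofMul g) :))
  · exact congrArg (fun z => Additive.toMul (ULift.down z))
      (NatTrans.naturality_apply e.inv.hom t.op (ULift.up.{u + 1} (Additive.ofMul g) :))

omit [GrpObj 𝒢] [IsCommMonObj 𝒢] in
theorem adProj_comp (v : FunFld.Place Fq K) :
    AdFn.adProjSHom S v ≫ (overIso (AdFn.SInt.toAd S) rfl).hom =
      (overIso (AdFn.SInt.toKv S v) rfl).hom ≫
        (Over.map gen).map (specMap (Pi.evalAlgHom K (fun w : FunFld.Place Fq K => AdFn.Kv w) v) ≫ specMap (toPi Fq)) := by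
  refine Over.OverMorphism.ext ?_
  show Spec.map _ ≫ 𝟙 _ = 𝟙 _ ≫ Spec.map _ ≫ Spec.map _
  rw [Category.comp_id, Category.id_comp, ← Spec.map_comp]
  rfl

include e in
/-- Almost all local points of a model of a subgroup of the Weil restriction of a finite group scheme are
integral. -/
theorem eventually_integral [LocallyOfFiniteType 𝒢.hom] [LocallyOfFiniteType G.hom] [QuasiCompact G.hom]
    {k' : Type u} [Field k'] [Algebra K k'] [FiniteDimensional K k']
    (B' : Over (Spec (CommRingCat.of k'))) [GrpObj B'] [IsCommMonObj B'] [IsFinite B'.hom]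
    (j : CGrpSh.pts Scheme.fppfPrecoverage G ⟶
      (BigSite.pushBig Scheme.fppfPrecoverage (fB K k') AddCommGrpCat.{u + 1}).obj
        (CGrpSh.pts Scheme.fppfPrecoverage B')) [Mono j] :
    ∀ᶠ v : FunFld.Place Fq K in cofinite, ∀ hv : v ∉ S, ∀ y : AdFn.specOf (AdFn.SInt.toKv S v) ⟶ 𝒢,
      ∃ z : AdFn.specOf (AdFn.SInt.toOv S hv) ⟶ 𝒢, AdFn.intResHom S hv ≫ z = y := by
  classical
  obtain ⟨to𝒢, hsurj, hnat⟩ := exists_transfer e
  let bad : ∀ v, (AdFn.specOf (AdFn.SInt.toKv S v) ⟶ 𝒢) → Prop := fun v y =>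
    ∃ hv : v ∉ S, ∀ z : AdFn.specOf (AdFn.SInt.toOv S hv) ⟶ 𝒢, AdFn.intResHom S hv ≫ z ≠ y
  obtain ⟨Y, hYbad⟩ : ∃ Y : ∀ v, AdFn.specOf (AdFn.SInt.toKv S v) ⟶ 𝒢, ∀ v, (∃ y, bad v y) → bad v (Y v) :=
    ⟨fun v => if h : ∃ y, bad v y then h.choose else 1, fun v h => by simp only [dif_pos h]; exact h.choose_spec⟩
  choose Y' hY' using fun v => hsurj (spec K (AdFn.Kv v)) ((overIso (AdFn.SInt.toKv S v) rfl).inv ≫ Y v)
  obtain ⟨x, hx⟩ := exists_adelic_point B' j Y'
  have hY : ∀ v, AdFn.adProjSHom S v ≫ (overIso (AdFn.SInt.toAd S) rfl).hom ≫ to𝒢 _ x = Y v := by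
    intro v
    rw [← Category.assoc, adProj_comp, Category.assoc, ← hnat, Category.assoc, hx, hY', Iso.hom_inv_id_assoc]
  filter_upwards [AdPts79.eventually_integral S ((overIso (AdFn.SInt.toAd S) rfl).hom ≫ to𝒢 _ x)] with v hv hvS y
  by_contra hy
  obtain ⟨_, hb⟩ := hYbad v ⟨y, hvS, fun z hz => hy ⟨z, hz⟩⟩
  obtain ⟨z, hz⟩ := hv hvS
  exact hb z (hz.trans (hY v))

end Groth.Agent.WeilPts79
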