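import Groth.Agent.WeilPts79.Tensor
import Groth.Agent.H84WeilRes.Affine
import Mathlib.RingTheory.TensorProduct.Free
import Mathlib.AlgebraicGeometry.Morphisms.Finite

/-!
# Points of a Weil restriction of a finite scheme are adelic
-/

set_option autoImplicit false

universe u

open Polynomial Filter TensorProduct CategoryTheory AlgebraicGeometry

namespace Groth.Agent.WeilPts79

variable (Fq : Type u) [Field Fq] {K : Type u} [Field K] [Algebra (RatFunc Fq) K] [FunctionField Fq K]
  [Algebra Fq K] [IsScalarTower Fq (RatFunc Fq) K]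

theorem hasFinitePoles : AdFn.HasFinitePoles Fq K :=
  ⟨fun x => by
    have h := eventually_val_le_one Fq x
    rw [Filter.eventually_cofinite] at h
    exact h.subset fun v hv => not_le.2 hv⟩

variable [AdFn.HasFinitePoles Fq K]

/-- The inclusion of the adele ring in the product of all completions. -/
noncomputable def toPi : AdFn.AdeleRing Fq K →ₐ[K] (∀ v : FunFld.Place Fq K, AdFn.Kv v) where
  toFun a v := a.1 v
  map_one' := rfl
  map_mul' _ _ := rfl
  map_zero' := rfl
  map_add' _ _ := rfl
  commutes' _ := rfl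

theorem toPi_injective : Function.Injective (toPi Fq (K := K)) := fun _ _ h => Subtype.ext h

variable {k' : Type u} [Field k'] [Algebra K k'] [FiniteDimensional K k']

theorem tmap_toPi_injective :
    Function.Injective (Algebra.TensorProduct.map (toPi Fq (K := K)) (AlgHom.id K k')) := by
  show Function.Injective ((toPi Fq).toLinearMap.rTensor k')
  exact Module.Flat.rTensor_preserves_injective_linearMap _ (toPi_injective Fq)

/-- An integral element over `K` of the product of the completions tensored with a finite extension is adelic. -/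
theorem exists_adele_of_integral (y : (∀ v : FunFld.Place Fq K, AdFn.Kv v) ⊗[K] k') (P : K[X]) (hP : P.Monic)
    (hy : aeval y P = 0) :
    ∃ x : AdFn.AdeleRing Fq K ⊗[K] k', Algebra.TensorProduct.map (toPi Fq) (AlgHom.id K k') x = y := by
  classical
  let e := Module.finBasis K k'
  let Pr : Type u := ∀ v : FunFld.Place Fq K, AdFn.Kv v
  let c : Fin (Module.finrank K k') → Pr := fun j => (Algebra.TensorProduct.basis Pr e).repr y j
  have hyc : y = ∑ j, c j ⊗ₜ e j := by
    conv_lhs => rw [← (Algebra.TensorProduct.basis Pr e).sum_repr y]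
    refine Finset.sum_congr rfl fun j _ => ?_
    rw [Algebra.TensorProduct.basis_apply, TensorProduct.smul_tmul', smul_eq_mul, mul_one]
  have hev : ∀ᶠ v : FunFld.Place Fq K in cofinite, ∀ j, c j v ∈ AdFn.Ov v := by
    have h2 : ∀ᶠ v : FunFld.Place Fq K in cofinite, ∀ n ∈ Finset.range (P.natDegree + 1), v.1 (P.coeff n) ≤ 1 :=
      (Finset.eventually_all _).2 fun n _ => eventually_val_le_one Fq _
    have h3 : ∀ᶠ v : FunFld.Place Fq K in cofinite, ∀ j, ∀ n ∈ Finset.range ((minpoly K (e j)).natDegree + 1),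
        v.1 ((minpoly K (e j)).coeff n) ≤ 1 :=
      Filter.eventually_all.2 fun j => (Finset.eventually_all _).2 fun n _ => eventually_val_le_one Fq _
    filter_upwards [eventually_coords_le_one Fq e, h2, h3] with v hB hPv he
    have hall : ∀ (Q : K[X]), (∀ n ∈ Finset.range (Q.natDegree + 1), v.1 (Q.coeff n) ≤ 1) →
        ∀ n, v.1 (Q.coeff n) ≤ 1 := fun Q hQ n => by
      rcases lt_or_ge n (Q.natDegree + 1) with hn | hn
      · exact hQ n (Finset.mem_range.2 hn)
      · rw [Polynomial.coeff_eq_zero_of_natDegree_lt hn, map_zero]; exact zero_le_one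
    let π : Pr ⊗[K] k' →ₐ[K] AdFn.Kv v ⊗[K] k' :=
      Algebra.TensorProduct.map (Pi.evalAlgHom K (fun w : FunFld.Place Fq K => AdFn.Kv w) v) (AlgHom.id K k')
    have hπ : aeval (π y) P = 0 := by rw [aeval_algHom_apply, hy, map_zero]
    intro j
    have h := coords_mem Fq e v hB (fun j => hall _ (he j)) P hP (hall _ hPv) (π y) hπ j
    have hr : (Algebra.TensorProduct.basis (AdFn.Kv v) e).repr (π y) j = c j v := by
      rw [hyc, map_sum, map_sum, Finsupp.coe_finsetSum, Finset.sum_apply, Finset.sum_eq_single j]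
      · simp [π]
        rfl
      · intro b _ hb
        simp [π, Ne.symm hb]
      · simp
    rwa [hr] at h
  refine ⟨∑ j, (⟨c j, hev.mono fun v hv => hv j⟩ : AdFn.AdeleRing Fq K) ⊗ₜ e j, ?_⟩
  rw [map_sum, hyc]
  rfl

variable (C : Type u) [CommRing C] [Algebra k' C] [Module.Finite k' C]

/-- A point of a finite algebra with values in the product of the completions is adelic. -/
theorem exists_adele_hom (φ : C →+* (∀ v : FunFld.Place Fq K, AdFn.Kv v) ⊗[K] k')
    (hφ : ∀ c, φ (algebraMap k' C c) = 1 ⊗ₜ c) :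
    ∃ ψ : C →+* AdFn.AdeleRing Fq K ⊗[K] k', (∀ c, ψ (algebraMap k' C c) = 1 ⊗ₜ c) ∧
      ∀ c, Algebra.TensorProduct.map (toPi Fq) (AlgHom.id K k') (ψ c) = φ c := by
  letI : Algebra K C := ((algebraMap k' C).comp (algebraMap K k')).toAlgebra
  haveI : IsScalarTower K k' C := IsScalarTower.of_algebraMap_eq fun _ => rfl
  haveI : Module.Finite K C := Module.Finite.trans k' C
  let φ' : C →ₐ[K] (∀ v : FunFld.Place Fq K, AdFn.Kv v) ⊗[K] k' :=
    { φ with
      commutes' := fun x => by
        show φ (algebraMap k' C (algebraMap K k' x)) = _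
        rw [hφ, Algebra.TensorProduct.algebraMap_apply, Algebra.algebraMap_eq_smul_one,
          Algebra.algebraMap_eq_smul_one, TensorProduct.smul_tmul] }
  let m := Algebra.TensorProduct.map (toPi Fq (K := K)) (AlgHom.id K k')
  have hmem : ∀ c, φ' c ∈ m.range := fun c => by
    have hc : IsIntegral K c := IsIntegral.of_finite K c
    exact exists_adele_of_integral Fq _ (minpoly K c) (minpoly.monic hc)
      (by rw [aeval_algHom_apply, minpoly.aeval, map_zero])
  let eM := AlgEquiv.ofInjective m (tmap_toPi_injective Fq)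
  let ψ := eM.symm.toAlgHom.comp (φ'.codRestrict m.range hmem)
  have hψ : ∀ c, m (ψ c) = φ c := fun c =>
    (congrArg Subtype.val (eM.apply_symm_apply (φ'.codRestrict m.range hmem c)) :)
  refine ⟨ψ.toRingHom, fun c => tmap_toPi_injective Fq ?_, hψ⟩
  exact ((hψ _).trans (hφ c)).trans (by simp [Algebra.TensorProduct.map_tmul])

open H84WeilRes

variable {X' : Over (Spec (CommRingCat.of k'))} [IsFinite X'.hom] {R : Over (Spec (CommRingCat.of K))}
  {q : Red.bc (fB K k') R ⟶ X'}

/-- A point of the Weil restriction of a finite scheme with values in the product of all completions is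
adelic. -/
theorem exists_adele_point (h : WeilRes.IsWeilRes (fB K k') X' R q)
    (g : spec K (∀ v : FunFld.Place Fq K, AdFn.Kv v) ⟶ R) :
    ∃ r : spec K (AdFn.AdeleRing Fq K) ⟶ R, specMap (toPi Fq) ≫ r = g := by
  haveI : IsAffine X'.left := isAffine_of_isAffineHom X'.hom
  let σ := Spec.preimage (X'.left.isoSpec.inv ≫ X'.hom)
  letI : Algebra k' Γ(X'.left, ⊤) := σ.hom.toAlgebra
  haveI : Module.Finite k' Γ(X'.left, ⊤) := by
    refine RingHom.finite_algebraMap.1 ((IsFinite.SpecMap_iff σ).1 ?_)
    rw [Spec.map_preimage]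
    infer_instance
  let e : X' ≅ specC (B' := k') Γ(X'.left, ⊤) := Over.isoMk X'.left.isoSpec (by
    change X'.left.isoSpec.hom ≫ Spec.map σ = X'.hom
    rw [Spec.map_preimage, Iso.hom_inv_id_assoc])
  obtain ⟨φ, hφ, hg⟩ := H84WeilRes.exists_point (WeilRes.restr (fB K k') q _ g ≫ e.hom)
  obtain ⟨ψ, hψ1, hψ⟩ := exists_adele_hom Fq Γ(X'.left, ⊤) φ fun c => RingHom.congr_fun hφ c
  refine ⟨h.lift _ (pointMor ψ (RingHom.ext hψ1) ≫ e.inv), (h _).1 ?_⟩
  rw [WeilRes.restr_comp, WeilRes.IsWeilRes.restr_lift, ← Category.assoc, Iso.comp_inv_eq, hg]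
  refine Over.OverMorphism.ext ?_
  change ((Over.pullback (fB K k')).map (specMap (toPi Fq))).left ≫ (bcIso K k' _).hom ≫ _ =
    (bcIso K k' _).hom ≫ _
  rw [← Category.assoc, pullback_map_left, Category.assoc, ← Spec.map_comp]
  exact congrArg (fun t => (bcIso K k' _).hom ≫ Spec.map t) (CommRingCat.hom_ext (RingHom.ext hψ))

end Groth.Agent.WeilPts79
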