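import Groth.Prelude.Def_AdFn
import Groth.Agent.FFLib.Quadratic
import Groth.Agent.FFLib.Ext
import Groth.Agent.NagataLib.Field
import Mathlib.RingTheory.DedekindDomain.Basic
import Mathlib.RingTheory.Valuation.ValuationRing

/-!
# Integral elements of a finite extension of a function field have almost everywhere integral coordinates
-/

set_option autoImplicit false

universe u

open Polynomial Filter

namespace Groth.Agent.WeilPts79

/-- A valuation which is `≤ 1` on a Dedekind domain is that of a prime: integers have denominators of valuation one. -/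
theorem exists_denominator {A K Γ : Type*} [CommRing A] [IsDomain A] [IsDedekindDomain A] [Field K] [Algebra A K]
    [IsFractionRing A K] [LinearOrderedCommGroupWithZero Γ] (w : Valuation K Γ) (hA : ∀ a, w (algebraMap A K a) ≤ 1)
    (hne : ∃ z, 1 < w z) {z : K} (hz : w z ≤ 1) :
    ∃ s b : A, w (algebraMap A K s) = 1 ∧ algebraMap A K s * z = algebraMap A K b := by
  let p : Ideal A :=
    { carrier := {a | w (algebraMap A K a) < 1}
      add_mem' := fun {a b} ha hb => by
        show w (algebraMap A K (a + b)) < 1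
        rw [map_add]; exact (w.map_add _ _).trans_lt (max_lt ha hb)
      zero_mem' := by show w (algebraMap A K 0) < 1; simp
      smul_mem' := fun c a ha => by
        show w (algebraMap A K (c * a)) < 1
        rw [map_mul, map_mul]
        exact (mul_le_mul' (hA c) le_rfl).trans_lt (by rwa [one_mul]) }
  have hmem : ∀ a, a ∉ p ↔ w (algebraMap A K a) = 1 := fun a =>
    ⟨fun h => le_antisymm (hA a) (not_lt.1 h), fun h h' => absurd h (ne_of_lt h')⟩
  haveI hp : p.IsPrime := by
    refine ⟨fun h => ?_, fun {a b} hab => ?_⟩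
    · have : (1 : A) ∈ p := h ▸ Submodule.mem_top
      exact (hmem 1).2 (by simp) this
    · by_contra! hc
      refine (hmem (a * b)).2 ?_ hab
      rw [map_mul, map_mul, (hmem a).1 hc.1, (hmem b).1 hc.2, one_mul]
  have hp0 : p ≠ ⊥ := by
    intro h0
    obtain ⟨y, hy⟩ := hne
    obtain ⟨a, b, hb, rfl⟩ := IsFractionRing.div_surjective (A := A) y
    have hb0 : b ≠ 0 := nonZeroDivisors.ne_zero hb
    have hwb : w (algebraMap A K b) = 1 := (hmem b).1 (by rw [h0]; simpa using hb0)
    rw [map_div₀, hwb, div_one] at hy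
    exact absurd hy (not_lt.2 (hA a))
  haveI := IsLocalization.AtPrime.isDiscreteValuationRing_of_dedekind_domain A hp0 (Localization.AtPrime p)
  obtain ⟨a, b, hb, rfl⟩ := IsFractionRing.div_surjective (A := A) z
  have hb0 : algebraMap A K b ≠ 0 :=
    (map_ne_zero_iff _ (IsFractionRing.injective A K)).2 (nonZeroDivisors.ne_zero hb)
  let g := algebraMap A (Localization.AtPrime p)
  rcases ValuationRing.dvd_total (g a) (g b) with ⟨c, hc⟩ | ⟨c, hc⟩ <;>
    obtain ⟨⟨c₀, s⟩, hcs⟩ := IsLocalization.surj p.primeCompl c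
  · have h : b * s.1 = a * c₀ := by
      have h' : g (b * s.1) = g (a * c₀) := by rw [map_mul, map_mul, hc, mul_assoc, hcs]
      obtain ⟨t, ht⟩ := (IsLocalization.eq_iff_exists p.primeCompl _).1 h'
      exact mul_left_cancel₀ (fun ht0 => t.2 (by rw [ht0]; exact p.zero_mem)) ht
    have hK := congrArg (algebraMap A K) h
    rw [map_mul, map_mul] at hK
    have hs : algebraMap A K a / algebraMap A K b * algebraMap A K c₀ = algebraMap A K s.1 := by
      rw [div_mul_eq_mul_div, div_eq_iff hb0, ← hK, mul_comm]
    have hc₀ : w (algebraMap A K c₀) = 1 := by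
      refine le_antisymm (hA c₀) ?_
      have h1 := congrArg w hs
      rw [map_mul, (hmem s.1).1 s.2] at h1
      calc (1 : Γ) = _ := h1.symm
        _ ≤ 1 * w (algebraMap A K c₀) := mul_le_mul' hz le_rfl
        _ = _ := one_mul _
    exact ⟨c₀, s.1, hc₀, (mul_comm _ _).trans hs⟩
  · have h : a * s.1 = b * c₀ := by
      have h' : g (a * s.1) = g (b * c₀) := by rw [map_mul, map_mul, hc, mul_assoc, hcs]
      obtain ⟨t, ht⟩ := (IsLocalization.eq_iff_exists p.primeCompl _).1 h'
      exact mul_left_cancel₀ (fun ht0 => t.2 (by rw [ht0]; exact p.zero_mem)) ht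
    have hK := congrArg (algebraMap A K) h
    rw [map_mul, map_mul] at hK
    refine ⟨s.1, c₀, (hmem s.1).1 s.2, ?_⟩
    rw [← mul_div_assoc, div_eq_iff hb0, mul_comm _ (algebraMap A K a), hK, mul_comm]

variable (Fq : Type u) [Field Fq] {K : Type u} [Field K] [Algebra (RatFunc Fq) K] [FunctionField Fq K]
  [Algebra Fq K] [IsScalarTower Fq (RatFunc Fq) K]

/-- A function field in Mathlib's sense is one in the sense of the library. -/
theorem isFF : FFLib.IsFF Fq K :=
  (FFLib.isFF_ratFunc Fq).ext

/-- An element of a function field is integral at almost all places. -/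
theorem eventually_val_le_one (x : K) : ∀ᶠ v : FunFld.Place Fq K in cofinite, v.1 x ≤ 1 := by
  rw [Filter.eventually_cofinite]
  refine (FFLib.finite_support_ord (isFF Fq) x).subset fun v hv => ?_
  rw [Set.mem_setOf_eq, not_le] at hv
  rcases eq_or_ne x 0 with rfl | hx
  · simp at hv
  · exact ne_of_lt ((FFLib.one_lt_val_iff v hx).1 hv)

variable {k' : Type u} [Field k'] [Algebra K k'] [FiniteDimensional K k'] {ι : Type*} [Fintype ι]

/-- At almost all places, an element of a finite extension which is integral over the local ring has coordinates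
in the local ring. -/
theorem eventually_coords_le_one (e : Module.Basis ι K k') :
    ∀ᶠ v : FunFld.Place Fq K in cofinite, ∀ z : k',
      (∃ P : K[X], P.Monic ∧ (∀ n, v.1 (P.coeff n) ≤ 1) ∧ aeval z P = 0) → ∀ j, v.1 (e.repr z j) ≤ 1 := by
  classical
  let f : Fq[X] →+* K := (algebraMap (RatFunc Fq) K).comp (algebraMap Fq[X] (RatFunc Fq))
  have hf : Function.Injective f :=
    (algebraMap (RatFunc Fq) K).injective.comp (IsFractionRing.injective Fq[X] (RatFunc Fq))
  letI : Algebra Fq[X] K := f.toAlgebra
  haveI : FaithfulSMul Fq[X] K := (faithfulSMul_iff_algebraMap_injective _ _).2 hf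
  letI : Algebra (FractionRing Fq[X]) K := FractionRing.liftAlgebra _ K
  haveI : IsScalarTower Fq[X] (FractionRing Fq[X]) K := FractionRing.isScalarTower_liftAlgebra _ K
  haveI : IsScalarTower Fq[X] (RatFunc Fq) K := IsScalarTower.of_algebraMap_eq fun _ => rfl
  haveI : FiniteDimensional (FractionRing Fq[X]) K := by
    let eq := FractionRing.algEquiv Fq[X] (RatFunc Fq)
    refine Module.Finite.of_equiv_equiv (A₁ := RatFunc Fq) (B₁ := K) eq.symm.toRingEquiv (RingEquiv.refl K) ?_
    refine IsLocalization.ringHom_ext (nonZeroDivisors Fq[X]) (RingHom.ext fun a => ?_)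
    show algebraMap (FractionRing Fq[X]) K (eq.symm (algebraMap Fq[X] (RatFunc Fq) a)) =
      algebraMap (RatFunc Fq) K (algebraMap Fq[X] (RatFunc Fq) a)
    rw [AlgEquiv.commutes, ← IsScalarTower.algebraMap_apply Fq[X] (FractionRing Fq[X]) K]
    rfl
  letI : Algebra Fq[X] k' := ((algebraMap K k').comp f).toAlgebra
  haveI : IsScalarTower Fq[X] K k' := IsScalarTower.of_algebraMap_eq fun _ => rfl
  letI : Algebra (FractionRing Fq[X]) k' := ((algebraMap K k').comp (algebraMap _ K)).toAlgebra
  haveI : IsScalarTower (FractionRing Fq[X]) K k' := IsScalarTower.of_algebraMap_eq fun _ => rfl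
  haveI : IsScalarTower Fq[X] (FractionRing Fq[X]) k' := IsScalarTower.of_algebraMap_eq fun a =>
    (congrArg (algebraMap K k') (IsScalarTower.algebraMap_apply Fq[X] (FractionRing Fq[X]) K a) :)
  haveI : FiniteDimensional (FractionRing Fq[X]) k' := Module.Finite.trans K k'
  haveI : Module.Finite Fq[X] (integralClosure Fq[X] k') :=
    NagataLib.isN2_of_finiteType Fq Fq[X] k' inferInstance
  haveI : Module.Finite Fq[X] (integralClosure Fq[X] K) :=
    NagataLib.isN2_of_finiteType Fq Fq[X] K inferInstance
  obtain ⟨T, hT⟩ := (Module.Finite.fg_top (R := Fq[X]) (M := integralClosure Fq[X] k'))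
  let x : K := f X
  have h1 : ∀ᶠ v : FunFld.Place Fq K in cofinite, v.1 x ≤ 1 ∧ ∀ t ∈ T, ∀ j, v.1 (e.repr (t : k') j) ≤ 1 :=
    (eventually_val_le_one Fq x).and
      ((T.eventually_all).2 fun t _ => Filter.eventually_all.2 fun j => eventually_val_le_one Fq _)
  filter_upwards [h1] with v ⟨hx, hT1⟩ z ⟨P, hP, hPv, hPz⟩ j
  have hfv : ∀ a : Fq[X], v.1 (f a) ≤ 1 := fun a => by
    induction a using Polynomial.induction_on' with
    | add a b ha hb => rw [map_add]; exact (v.1.map_add _ _).trans (max_le ha hb)
    | monomial n c =>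
      rw [← C_mul_X_pow_eq_monomial, map_mul, map_pow, map_mul, map_pow]
      refine mul_le_one' ?_ (pow_le_one' hx n)
      have hc : f (C c) = algebraMap Fq K c := by
        show algebraMap (RatFunc Fq) K (algebraMap Fq[X] (RatFunc Fq) (algebraMap Fq Fq[X] c)) = _
        rw [← IsScalarTower.algebraMap_apply Fq Fq[X] (RatFunc Fq), ← IsScalarTower.algebraMap_apply]
      rw [hc]
      exact v.2.1 c
  let A := integralClosure Fq[X] K
  haveI : IsNoetherianRing A := IsNoetherianRing.of_finite Fq[X] A
  haveI : IsIntegrallyClosed A := integralClosure.isIntegrallyClosedOfFiniteExtension (FractionRing Fq[X])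
  haveI : IsFractionRing A K := integralClosure.isFractionRing_of_finite_extension (FractionRing Fq[X]) K
  haveI : IsDedekindDomain A := {}
  have hA : ∀ a : A, v.1 (algebraMap A K a) ≤ 1 := fun a => by
    obtain ⟨Q, hQ, hQa⟩ := a.2
    by_contra! hlt
    have ha : v.1 (aeval (a : K) Q) = v.1 (a : K) ^ Q.natDegree := by
      rw [aeval_eq_sum_range, Finset.sum_range_succ, hQ.coeff_natDegree, one_smul]
      rw [v.1.map_add_eq_of_lt_right, map_pow]
      rw [map_pow]
      refine v.1.map_sum_lt (pow_ne_zero _ (ne_of_gt (lt_trans zero_lt_one hlt))) fun i hi => ?_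
      rw [Algebra.smul_def, map_mul, map_pow]
      refine (mul_le_mul' (hfv _) le_rfl).trans_lt ?_
      rw [one_mul]
      exact pow_lt_pow_right₀ hlt (Finset.mem_range.1 hi)
    have h0 : v.1 (a : K) ^ Q.natDegree = 0 := by
      refine ha.symm.trans ?_
      rw [show aeval (a : K) Q = 0 from hQa, map_zero]
    exact absurd hlt (not_lt.2 ((eq_zero_of_pow_eq_zero h0 :).le.trans zero_le_one))
  have hne : ∃ y, 1 < v.1 y := by
    obtain ⟨y, hy⟩ := v.2.2 (WithZero.exp (1 : ℤ))
    exact ⟨y, lt_of_lt_of_eq (by rw [← WithZero.exp_zero, WithZero.exp_lt_exp]; exact Int.one_pos) hy.symm⟩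
  choose s b hs hsb using fun n => exists_denominator v.1 hA hne (hPv n)
  let σ : A := ∏ i ∈ Finset.range P.natDegree, s i
  let σK : K := algebraMap A K σ
  have hσ : v.1 σK = 1 := by
    simp only [σK, σ, map_prod, hs, Finset.prod_const_one]
  have hint : IsIntegral Fq[X] (algebraMap K k' σK * z) := by
    have h2 : IsIntegral A (algebraMap K k' σK * z) := by
      have hroot := P.scaleRoots_aeval_eq_zero (r := σK) hPz
      refine ⟨(Polynomial.toSubring (P.scaleRoots σK) A.toSubring ?_), ?_, ?_⟩
      · intro c hc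
        simp only [Finset.mem_coe, Polynomial.mem_coeffs_iff] at hc
        obtain ⟨n, -, rfl⟩ := hc
        rw [Polynomial.coeff_scaleRoots]
        rcases lt_or_ge n P.natDegree with hn | hn
        · obtain ⟨d, hd⟩ := Finset.dvd_prod_of_mem s (Finset.mem_range.2 hn)
          have hdvd : ∃ c : A, P.coeff n * σK = c := by
            refine ⟨b n * d, ?_⟩
            show P.coeff n * algebraMap A K σ = ((b n * d : A) : K)
            rw [show σ = s n * d from hd, map_mul, ← mul_assoc, mul_comm (P.coeff n), hsb]
            rfl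
          obtain ⟨c, hc⟩ := hdvd
          obtain ⟨k, hk⟩ : ∃ k, P.natDegree - n = k + 1 := ⟨_, (Nat.succ_pred_eq_of_pos (by omega)).symm⟩
          rw [hk, pow_succ', ← mul_assoc, hc]
          exact A.mul_mem c.2 (A.pow_mem σ.2 k)
        · rcases hn.eq_or_lt with hn | hn
          · subst hn
            simp only [hP.coeff_natDegree, Nat.sub_self, pow_zero, one_mul]
            exact A.one_mem
          · simp only [Polynomial.coeff_eq_zero_of_natDegree_lt hn, zero_mul]
            exact A.zero_mem
      · rw [Polynomial.monic_toSubring]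
        exact (Polynomial.monic_scaleRoots_iff σK).2 hP
      · rw [← hroot, Polynomial.aeval_def, IsScalarTower.algebraMap_eq A K k', ← Polynomial.eval₂_map]
        refine congrArg (eval₂ _ _) ?_
        exact Polynomial.ext fun n => (Polynomial.coeff_map _ n).trans (Polynomial.coeff_toSubring _ _ _)
    exact isIntegral_trans _ h2
  have hmem : (⟨_, hint⟩ : integralClosure Fq[X] k') ∈ Submodule.span Fq[X] (T : Set (integralClosure Fq[X] k')) :=
    hT ▸ Submodule.mem_top
  obtain ⟨g, -, hg⟩ := Submodule.mem_span_finset.1 hmem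
  have hg' := congrArg (fun y : integralClosure Fq[X] k' => e.repr (y : k') j) hg
  simp only [Submonoid.coe_mul, AddSubmonoidClass.coe_finsetSum, SetLike.val_smul, map_sum, Finsupp.coe_finsetSum,
    Finset.sum_apply] at hg'
  have hR : v.1 (σK * e.repr z j) ≤ 1 := by
    rw [← smul_eq_mul, ← Finsupp.smul_apply, ← map_smul, Algebra.smul_def, ← hg']
    refine v.1.map_sum_le fun t ht => ?_
    rw [← algebraMap_smul K (g t) (t : k'), map_smul, Finsupp.smul_apply, smul_eq_mul, map_mul]
    exact mul_le_one' (hfv _) (hT1 t ht j)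
  rwa [map_mul, hσ, one_mul] at hR

end Groth.Agent.WeilPts79
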