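import Groth.Agent.WeilPts79.Lattice
import Mathlib.RingTheory.Flat.Basic
import Mathlib.RingTheory.TensorProduct.Free

/-!
# Integral elements of `K_v ⊗ k'` have integral coordinates at almost all places
-/

set_option autoImplicit false

universe u

open Polynomial Filter TensorProduct

namespace Groth.Agent.WeilPts79

variable {k K : Type u} [Field k] [Field K] [Algebra k K] (v : FunFld.Place k K)

/-- `K` is dense in `K_v`. -/
theorem exists_approx (c : AdFn.Kv v) : ∃ c' : K, c - AdFn.toKv v c' ∈ AdFn.Ov v := by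
  have ho : IsOpen {y : AdFn.Kv v | c - y ∈ AdFn.Ov v} :=
    (AdFn.isOpen_Ov v).preimage (continuous_const.sub continuous_id)
  obtain ⟨a, ha⟩ := (UniformSpace.Completion.denseRange_coe (α := WithVal v.1)).exists_mem_open ho
    ⟨c, by simp⟩
  exact ⟨WithVal.ofVal a, by simpa [AdFn.toKv_apply] using ha⟩

variable {k' : Type u} [Field k'] [Algebra K k']

/-- An element of a field extension which is integral over `O_v` in `K_v ⊗ k'` is integral over the local ring. -/
theorem exists_poly_of_isIntegral [FiniteDimensional K k'] (z : k')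
    (hz : IsIntegral (AdFn.Ov v) ((1 : AdFn.Kv v) ⊗ₜ[K] z)) :
    ∃ P : K[X], P.Monic ∧ (∀ n, v.1 (P.coeff n) ≤ 1) ∧ aeval z P = 0 := by
  classical
  obtain ⟨Q, hQ, hQz⟩ := hz
  let m := minpoly K z
  have hzi : IsIntegral K z := IsIntegral.of_finite K z
  have hm : m.Monic := minpoly.monic hzi
  refine ⟨m, hm, ?_, minpoly.aeval _ _⟩
  let Q' : (AdFn.Kv v)[X] := Q.map (algebraMap (AdFn.Ov v) (AdFn.Kv v))
  let mv : (AdFn.Kv v)[X] := m.map (algebraMap K (AdFn.Kv v))
  let w : AdFn.Kv v ⊗[K] k' := 1 ⊗ₜ z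
  have hQ' : aeval w Q' = 0 := by
    rw [aeval_def, eval₂_map, ← IsScalarTower.algebraMap_eq]
    exact hQz
  have hmw : aeval w mv = 0 := by
    show aeval w (m.map _) = 0
    rw [aeval_map_algebraMap]
    show aeval ((Algebra.TensorProduct.includeRight : k' →ₐ[K] AdFn.Kv v ⊗[K] k') z) m = 0
    rw [aeval_algHom_apply, minpoly.aeval, map_zero]
  have hmv : mv.Monic := hm.map _
  have hr : aeval w (Q' %ₘ mv) = 0 := by
    have h := congrArg (aeval w) (modByMonic_add_div Q' mv)
    rw [map_add, map_mul, hmw, zero_mul, add_zero, hQ'] at h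
    exact h
  have hli : LinearIndependent (AdFn.Kv v) (fun i : Fin m.natDegree => w ^ (i : ℕ)) := by
    let l : (Fin m.natDegree →₀ K) →ₗ[K] k' := Finsupp.linearCombination K fun i => z ^ (i : ℕ)
    have hl : Function.Injective l := linearIndependent_pow z
    have hinj : Function.Injective (l.lTensor (AdFn.Kv v)) := Module.Flat.lTensor_preserves_injective_linearMap _ hl
    let b := Algebra.TensorProduct.basis (AdFn.Kv v) (Finsupp.basisSingleOne (R := K) (ι := Fin m.natDegree))
    let L : AdFn.Kv v ⊗[K] (Fin m.natDegree →₀ K) →ₗ[AdFn.Kv v] AdFn.Kv v ⊗[K] k' :=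
      TensorProduct.AlgebraTensorModule.map LinearMap.id l
    have hL : LinearMap.ker L = ⊥ := LinearMap.ker_eq_bot.2 hinj
    have hLb : (fun i : Fin m.natDegree => w ^ (i : ℕ)) = L ∘ b := by
      funext i
      simp [b, L, l, w, Finsupp.basisSingleOne, Algebra.TensorProduct.tmul_pow]
    rw [hLb]
    exact b.linearIndependent.map' L hL
  have hr0 : Q' %ₘ mv = 0 := by
    have hd : m.natDegree ≠ 0 := (minpoly.natDegree_pos hzi).ne'
    have hdeg : (Q' %ₘ mv).natDegree < m.natDegree := by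
      have := natDegree_modByMonic_lt Q' hmv (fun h => hd (by
        rw [← hm.natDegree_map (algebraMap K (AdFn.Kv v))]
        show mv.natDegree = 0
        rw [h, natDegree_one]))
      rwa [show mv.natDegree = m.natDegree from hm.natDegree_map _] at this
    rw [aeval_eq_sum_range' hdeg, Finset.sum_range] at hr
    have h := Fintype.linearIndependent_iff.1 hli (fun i => (Q' %ₘ mv).coeff i) hr
    refine Polynomial.ext fun n => ?_
    rcases lt_or_ge n m.natDegree with hn | hn
    · exact (h ⟨n, hn⟩).trans (coeff_zero n).symm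
    · rw [coeff_eq_zero_of_natDegree_lt (hdeg.trans_le hn), coeff_zero]
  have hdvd : mv ∣ Q' := (modByMonic_eq_zero_iff_dvd hmv).1 hr0
  haveI : IsFractionRing (AdFn.Ov v) (AdFn.Kv v) := inferInstance
  obtain ⟨g, hg⟩ := IsIntegrallyClosed.eq_map_mul_C_of_dvd (AdFn.Kv v) hQ hdvd
  rw [hmv.leadingCoeff, C_1, mul_one] at hg
  intro n
  rw [← AdFn.toKv_mem_Ov]
  have h := congrArg (fun p => Polynomial.coeff p n) hg
  simp only [mv, coeff_map] at h
  exact h ▸ (g.coeff n).2

variable [FiniteDimensional K k'] {ι : Type} [Fintype ι] (e : Module.Basis ι K k')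

omit v
variable (k)

/-- An element of `K_v ⊗ k'` annihilated by a monic polynomial has integral coordinates, given integrality of
the local data. -/
theorem coords_mem (v : FunFld.Place k K)
    (hB : ∀ z : k', (∃ P : K[X], P.Monic ∧ (∀ n, v.1 (P.coeff n) ≤ 1) ∧ aeval z P = 0) → ∀ j, v.1 (e.repr z j) ≤ 1)
    (he : ∀ j n, v.1 ((minpoly K (e j)).coeff n) ≤ 1) (P : K[X]) (hP : P.Monic) (hPv : ∀ n, v.1 (P.coeff n) ≤ 1)
    (y : AdFn.Kv v ⊗[K] k') (hy : aeval y P = 0) (j : ι) :
    (Algebra.TensorProduct.basis (AdFn.Kv v) e).repr y j ∈ AdFn.Ov v := by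
  classical
  let bv := Algebra.TensorProduct.basis (AdFn.Kv v) e
  have hint : ∀ (x : AdFn.Kv v ⊗[K] k') (R : K[X]), R.Monic → (∀ n, v.1 (R.coeff n) ≤ 1) → aeval x R = 0 →
      IsIntegral (AdFn.Ov v) x := fun x R hR hRv hx => by
    let R' := (R.map (AdFn.toKv v)).toSubring (AdFn.Ov v).toSubring (fun c hc => by
      simp only [Finset.mem_coe, Polynomial.mem_coeffs_iff] at hc
      obtain ⟨n, -, rfl⟩ := hc
      rw [coeff_map]
      exact (AdFn.toKv_mem_Ov v _).2 (hRv n))
    refine ⟨R', (Polynomial.monic_toSubring _ _ _).2 (hR.map _), ?_⟩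
    have h : R'.map (algebraMap (AdFn.Ov v) (AdFn.Kv v)) = R.map (algebraMap K (AdFn.Kv v)) :=
      Polynomial.ext fun n => (Polynomial.coeff_map _ n).trans (Polynomial.coeff_toSubring _ _ _)
    rw [IsScalarTower.algebraMap_eq (AdFn.Ov v) (AdFn.Kv v), ← eval₂_map, h]
    rw [← aeval_def, aeval_map_algebraMap, hx]
  choose c hc using fun i => exists_approx v (bv.repr y i)
  let z : k' := e.equivFun.symm c
  have hzr : ∀ i, e.repr z i = c i := fun i => congrFun (e.equivFun.apply_symm_apply c) i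
  have hl : y - 1 ⊗ₜ z = ∑ i, (⟨_, hc i⟩ : AdFn.Ov v) • bv i := by
    refine bv.ext_elem fun i => ?_
    rw [map_sub, Finsupp.sub_apply, Algebra.TensorProduct.basis_repr_tmul]
    simp only [one_smul, Finsupp.mapRange_apply, hzr]
    rw [map_sum, Finsupp.coe_finsetSum, Finset.sum_apply, Finset.sum_eq_single i]
    · rw [← algebraMap_smul (AdFn.Kv v) (⟨_, hc i⟩ : AdFn.Ov v), map_smul, Finsupp.smul_apply, bv.repr_self,
        Finsupp.single_eq_same, smul_eq_mul, mul_one]
      rfl
    · intro b _ hb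
      rw [← algebraMap_smul (AdFn.Kv v) (⟨_, hc b⟩ : AdFn.Ov v), map_smul, Finsupp.smul_apply, bv.repr_self,
        Finsupp.single_eq_of_ne (Ne.symm hb), smul_zero]
    · simp
  have hli : IsIntegral (AdFn.Ov v) (y - 1 ⊗ₜ z) := by
    rw [hl]
    refine IsIntegral.sum _ fun i _ => ?_
    rw [Algebra.smul_def]
    refine IsIntegral.mul isIntegral_algebraMap (hint _ _ (minpoly.monic (IsIntegral.of_finite K (e i))) (he i) ?_)
    rw [Algebra.TensorProduct.basis_apply]
    show aeval ((Algebra.TensorProduct.includeRight : k' →ₐ[K] AdFn.Kv v ⊗[K] k') (e i)) _ = 0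
    rw [aeval_algHom_apply, minpoly.aeval, map_zero]
  have hzi : IsIntegral (AdFn.Ov v) ((1 : AdFn.Kv v) ⊗ₜ[K] z) := by
    have := (hint y P hP hPv hy).sub hli
    rwa [sub_sub_cancel] at this
  have hcj : AdFn.toKv v (c j) ∈ AdFn.Ov v :=
    (AdFn.toKv_mem_Ov v _).2 (hzr j ▸ hB z (exists_poly_of_isIntegral v z hzi) j)
  have := (AdFn.Ov v).add_mem _ _ (hc j) hcj
  rwa [sub_add_cancel] at this

end Groth.Agent.WeilPts79
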